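import Mathlib
import Groth.Agent.Lib.Lead.FlatLoc12
import Groth.Agent.Lib.Helper7.FlatAtBC.Main

set_option linter.style.haveILetI false
set_option linter.unusedVariables false
set_option linter.unusedSectionVars false
set_option autoImplicit false
set_option backward.isDefEq.respectTransparency.types false
set_option synthInstance.maxHeartbeats 400000
set_option maxHeartbeats 1600000

universe u

/-! helper7: a finite module over a finitely presented algebra, flat over the base, which is locally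
(on the base) finitely presented, is finitely presented, provided the base embeds into a finite
product of its local rings. -/

open TensorProduct

namespace Groth.Agent.Helper7.FPLoc

section A

variable {S : Type u} [CommRing S] (T : Submonoid S) {F M : Type u} [AddCommGroup F] [Module S F]
  [Module.Finite S F] [AddCommGroup M] [Module S M] (π : F →ₗ[S] M)

theorem exists_fg_le_ker (hπ : Function.Surjective π)
    [Module.FinitePresentation (Localization T) (LocalizedModule T M)] :
    ∃ K₀ : Submodule S F, K₀ ≤ LinearMap.ker π ∧ K₀.FG ∧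
      ∀ x ∈ LinearMap.ker π, ∃ t ∈ T, t • x ∈ K₀ := by
  classical
  let f := LocalizedModule.mkLinearMap T F
  let πT := LocalizedModule.map T π
  have hsurj : Function.Surjective πT := LocalizedModule.map_surjective T π hπ
  have hfg : (LinearMap.ker πT).FG := Module.FinitePresentation.fg_ker πT hsurj
  obtain ⟨G, hG⟩ := hfg
  have hrep : ∀ y ∈ LinearMap.ker πT, ∃ m ∈ LinearMap.ker π, ∃ s : T,
      IsLocalizedModule.mk' f m s = y := by
    intro y hy
    induction y using LocalizedModule.induction_on with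
    | h m s =>
      have h1 : LocalizedModule.mk (π m) s = 0 := by
        have := LinearMap.mem_ker.mp hy
        rwa [LocalizedModule.map_mk] at this
      rw [IsLocalizedModule.mk_eq_mk', IsLocalizedModule.mk'_eq_zero'] at h1
      obtain ⟨c, hc⟩ := h1
      refine ⟨(c : S) • m, ?_, c * s, ?_⟩
      · rw [LinearMap.mem_ker, map_smul]; exact hc
      · rw [IsLocalizedModule.mk_eq_mk']
        exact IsLocalizedModule.mk'_cancel_left (f := f) m c s
  have hGk : ∀ y ∈ G, y ∈ LinearMap.ker πT := fun y hy => hG ▸ Submodule.subset_span hy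
  choose! mm hmm using hrep
  let K₀ : Submodule S F := Submodule.span S (mm '' (G : Set (LocalizedModule T F)))
  refine ⟨K₀, ?_, ?_, ?_⟩
  · rw [Submodule.span_le]
    rintro _ ⟨y, hy, rfl⟩
    exact (hmm y (hGk y hy)).1
  · exact Submodule.fg_span ((G.finite_toSet).image mm)
  · intro x hx
    let L₀ := Submodule.localized' (Localization T) T f K₀
    have hle : LinearMap.ker πT ≤ L₀ := by
      rw [← hG, Submodule.span_le]
      intro y hy
      obtain ⟨s, hs⟩ := (hmm y (hGk y hy)).2
      exact ⟨mm y, Submodule.subset_span ⟨y, hy, rfl⟩, s, hs⟩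
    have hx' : f x ∈ LinearMap.ker πT := by
      rw [LinearMap.mem_ker]
      show LocalizedModule.map T π (LocalizedModule.mkLinearMap T F x) = 0
      rw [LocalizedModule.mkLinearMap_apply, LocalizedModule.map_mk, LinearMap.mem_ker.mp hx,
        LocalizedModule.zero_mk]
    obtain ⟨m, hm, s, hs⟩ := hle hx'
    rw [IsLocalizedModule.mk'_eq_iff] at hs
    have h2 : f m = f ((s : S) • x) := by
      rw [hs, map_smul]; rfl
    obtain ⟨c, hc⟩ := (IsLocalizedModule.eq_iff_exists T f).mp h2
    refine ⟨c * s, T.mul_mem c.2 s.2, ?_⟩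
    have h3 : ((c : S) * (s : S)) • x = (c : S) • m := by
      rw [mul_smul]; exact hc.symm
    rw [h3]
    exact K₀.smul_mem _ hm

end A

section C

theorem eq_zero_of_flat {R : Type u} [CommRing R] {ι : Type u} [Fintype ι] (t : ι → R)
    (ht : ∀ r : R, (∀ j, t j * r = 0) → r = 0)
    (F : Type u) [AddCommGroup F] [Module R F] [Module.Flat R F] (y : F)
    (hy : ∀ j, t j • y = 0) : y = 0 := by
  classical
  let f : R →ₗ[R] (ι → R) := LinearMap.pi fun j => LinearMap.mulLeft R (t j)
  have hfa : ∀ r j, f r j = t j * r := fun r j => rfl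
  have hf : Function.Injective f := by
    rw [injective_iff_map_eq_zero]
    intro r hr
    apply ht r
    intro j
    rw [← hfa, hr]; rfl
  have h1 : Function.Injective (f.lTensor F) :=
    Module.Flat.lTensor_preserves_injective_linearMap f hf
  have h2 : (f.lTensor F) (y ⊗ₜ[R] (1 : R)) = 0 := by
    apply (TensorProduct.piRight R R F (fun _ : ι => R)).injective
    rw [map_zero, LinearMap.lTensor_tmul, TensorProduct.piRight_apply,
      TensorProduct.piRightHom_tmul]
    funext j
    show y ⊗ₜ[R] (f 1 j) = 0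
    have h3 : f 1 j = t j • (1 : R) := by rw [hfa, smul_eq_mul]
    rw [h3, ← TensorProduct.smul_tmul, hy j, TensorProduct.zero_tmul]
  have h3 : y ⊗ₜ[R] (1 : R) = 0 := h1 (by rw [h2, map_zero])
  have h4 := congrArg (TensorProduct.rid R F) h3
  rw [TensorProduct.rid_tmul, one_smul, map_zero] at h4
  exact h4

end C

section B

variable {R S : Type u} [CommRing R] [CommRing S] [Algebra R S] [Algebra.FinitePresentation R S]
  {M : Type u} [AddCommGroup M] [Module S M] [Module R M] [IsScalarTower R S M] [Module.Flat R M]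
  {F : Type u} [AddCommGroup F] [Module S F] [Module R F] [IsScalarTower R S F]
  [Module.Free S F] [Module.Finite S F]
  (π : F →ₗ[S] M) (hπ : Function.Surjective π)
  (s : Finset (PrimeSpectrum R))
  (hs : Function.Injective fun r : R => fun p : s =>
    algebraMap R (Localization.AtPrime p.1.asIdeal) r)
  (hloc : ∀ (p : Ideal R) [p.IsPrime],
      Module.FinitePresentation
        (Localization (Algebra.algebraMapSubmonoid S p.primeCompl))
        (LocalizedModule (Algebra.algebraMapSubmonoid S p.primeCompl) M))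

include hπ hs hloc in
theorem exists_basicOpen (q : Ideal S) [q.IsPrime] :
    ∃ g : S, g ∉ q ∧ ∃ K₀ : Submodule S F, K₀ ≤ LinearMap.ker π ∧ K₀.FG ∧
      ∀ x ∈ LinearMap.ker π, ∃ k : ℕ, g ^ k • x ∈ K₀ := by
  classical
  let p : Ideal R := q.comap (algebraMap R S)
  haveI : p.IsPrime := Ideal.comap_isPrime _ _
  have hA : ∀ (p' : Ideal R) [p'.IsPrime], ∃ K₀ : Submodule S F, K₀ ≤ LinearMap.ker π ∧ K₀.FG ∧
      ∀ x ∈ LinearMap.ker π, ∃ t : R, t ∉ p' ∧ t • x ∈ K₀ := by
    intro p' _
    haveI := hloc p'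
    obtain ⟨K₀, h1, h2, h3⟩ :=
      exists_fg_le_ker (Algebra.algebraMapSubmonoid S p'.primeCompl) π hπ
    refine ⟨K₀, h1, h2, fun x hx => ?_⟩
    obtain ⟨_, ⟨t, ht, rfl⟩, htx⟩ := h3 x hx
    refine ⟨t, ht, ?_⟩
    rwa [algebraMap_smul] at htx
  obtain ⟨Kp, hKp1, hKp2, hKp3⟩ := hA p
  have hA' : ∀ j : s, ∃ K₀ : Submodule S F, K₀ ≤ LinearMap.ker π ∧ K₀.FG ∧
      ∀ x ∈ LinearMap.ker π, ∃ t : R, t ∉ j.1.asIdeal ∧ t • x ∈ K₀ := fun j => hA j.1.asIdeal
  choose Kj hKj1 hKj2 hKj3 using hA'
  let K' : Submodule S F := Kp ⊔ ⨆ j : s, Kj j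
  have hK'le : K' ≤ LinearMap.ker π := sup_le hKp1 (iSup_le hKj1)
  have hK'fg : K'.FG := hKp2.sup (Submodule.fg_iSup _ hKj2)
  have hKpK' : Kp ≤ K' := le_sup_left
  have hKjK' : ∀ j, Kj j ≤ K' := fun j => le_trans (le_iSup Kj j) le_sup_right
  haveI : Module.FinitePresentation S (F ⧸ K') :=
    Module.finitePresentation_of_free_of_surjective K'.mkQ (Submodule.mkQ_surjective K')
      (by rwa [Submodule.ker_mkQ])
  let φ : (F ⧸ K') →ₗ[S] M := K'.liftQ π hK'le
  have hφmk : ∀ z : F, φ (K'.mkQ z) = π z := fun z => rfl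
  have hφsurj : Function.Surjective φ := by
    intro m
    obtain ⟨x, rfl⟩ := hπ m
    exact ⟨K'.mkQ x, hφmk x⟩
  have hsmulmk : ∀ (t : R) (z : F), t • K'.mkQ z = K'.mkQ (t • z) := by
    intro t z
    rw [Submodule.mkQ_apply, Submodule.mkQ_apply, Submodule.Quotient.mk_smul]
  have hφker : ∀ x' : F ⧸ K', φ x' = 0 → ∃ t : R, t ∉ p ∧ t • x' = 0 := by
    intro x' hx'
    obtain ⟨z, rfl⟩ := Submodule.mkQ_surjective K' x'
    have hz : z ∈ LinearMap.ker π := by
      rw [LinearMap.mem_ker, ← hφmk]; exact hx'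
    obtain ⟨t, ht, htz⟩ := hKp3 z hz
    refine ⟨t, ht, ?_⟩
    rw [hsmulmk, Submodule.mkQ_apply, Submodule.Quotient.mk_eq_zero]
    exact hKpK' htz
  have hflatq : Module.Flat R (LocalizedModule q.primeCompl (F ⧸ K')) := by
    haveI : Module.Flat R (LocalizedModule q.primeCompl M) :=
      FlatAtBC.flat_of_isLocalizedModule (A := R) (B := S) q.primeCompl
        (LocalizedModule.mkLinearMap q.primeCompl M)
    let ψ : (F ⧸ K') →ₗ[S] LocalizedModule q.primeCompl M :=
      (LocalizedModule.mkLinearMap q.primeCompl M) ∘ₗ φ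
    haveI : IsLocalizedModule q.primeCompl ψ := by
      refine ⟨?_, ?_, ?_⟩
      · exact IsLocalizedModule.map_units (LocalizedModule.mkLinearMap q.primeCompl M)
      · intro y
        obtain ⟨⟨m, t⟩, hmt⟩ := IsLocalizedModule.surj q.primeCompl
          (LocalizedModule.mkLinearMap q.primeCompl M) y
        obtain ⟨x', rfl⟩ := hφsurj m
        exact ⟨⟨x', t⟩, hmt⟩
      · intro x₁ x₂ h
        have h1 : LocalizedModule.mkLinearMap q.primeCompl M (φ (x₁ - x₂)) = 0 := by
          rw [map_sub, map_sub, sub_eq_zero]; exact h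
        obtain ⟨c, hc⟩ := (IsLocalizedModule.eq_zero_iff q.primeCompl
          (LocalizedModule.mkLinearMap q.primeCompl M)).mp h1
        have h2 : φ ((c : S) • (x₁ - x₂)) = 0 := by rw [map_smul]; exact hc
        obtain ⟨t, ht, htx⟩ := hφker _ h2
        have htq : algebraMap R S t ∈ q.primeCompl := fun hmem => ht hmem
        refine ⟨⟨algebraMap R S t, htq⟩ * c, ?_⟩
        have h3 : (algebraMap R S t * (c : S)) • (x₁ - x₂) = 0 := by
          rw [mul_smul, algebraMap_smul]; exact htx
        rw [smul_sub, sub_eq_zero] at h3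
        exact h3
    exact Module.Flat.of_linearEquiv ((IsLocalizedModule.iso q.primeCompl ψ).restrictScalars R)
  have hopen : IsOpen {r : PrimeSpectrum S |
      Module.Flat R (LocalizedModule r.asIdeal.primeCompl (F ⧸ K'))} :=
    Groth.Agent.Lead.FlatLoc.isOpen_flatLocus_of_finitePresentation
  have hqU : (⟨q, inferInstance⟩ : PrimeSpectrum S) ∈ {r : PrimeSpectrum S |
      Module.Flat R (LocalizedModule r.asIdeal.primeCompl (F ⧸ K'))} := hflatq
  obtain ⟨_, ⟨g, rfl⟩, hqg, hgU⟩ :=
    PrimeSpectrum.isTopologicalBasis_basic_opens.exists_subset_of_mem_open hqU hopen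
  have hgq : g ∉ q := hqg
  haveI hflatg : Module.Flat R (LocalizedModule (Submonoid.powers g) (F ⧸ K')) := by
    apply Groth.Agent.Lead.FlatLoc.flat_localizedModule_of_forall_prime (A := R) (F ⧸ K')
      (Submonoid.powers g)
    intro r _ hdisj
    have hgr : g ∉ r := fun hmem => Set.disjoint_left.mp hdisj hmem (Submonoid.mem_powers g)
    exact hgU (show (⟨r, inferInstance⟩ : PrimeSpectrum S) ∈
      (PrimeSpectrum.basicOpen g : Set (PrimeSpectrum S)) from hgr)
  refine ⟨g, hgq, K', hK'le, hK'fg, fun x hx => ?_⟩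
  have htj : ∀ j : s, ∃ t : R, t ∉ j.1.asIdeal ∧ t • x ∈ K' := fun j => by
    obtain ⟨t, ht, htx⟩ := hKj3 j x hx
    exact ⟨t, ht, hKjK' j htx⟩
  choose tj htj1 htj2 using htj
  have hinj : ∀ r : R, (∀ j, tj j * r = 0) → r = 0 := by
    intro r hr
    apply hs
    funext j
    show algebraMap R (Localization.AtPrime j.1.asIdeal) r =
      algebraMap R (Localization.AtPrime j.1.asIdeal) 0
    rw [map_zero]
    have hu : IsUnit (algebraMap R (Localization.AtPrime j.1.asIdeal) (tj j)) :=
      IsLocalization.map_units _ (⟨tj j, htj1 j⟩ : j.1.asIdeal.primeCompl)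
    have h5 := congrArg (algebraMap R (Localization.AtPrime j.1.asIdeal)) (hr j)
    rw [map_mul, map_zero] at h5
    exact (hu.mul_right_eq_zero).mp h5
  have hy : ∀ j, tj j • (LocalizedModule.mkLinearMap (Submonoid.powers g) (F ⧸ K') (K'.mkQ x)) = 0 := by
    intro j
    have h1 : tj j • (K'.mkQ x) = 0 := by
      rw [hsmulmk, Submodule.mkQ_apply, Submodule.Quotient.mk_eq_zero]
      exact htj2 j
    rw [← algebraMap_smul S (tj j), ← map_smul, algebraMap_smul, h1, map_zero]
  have hy0 := eq_zero_of_flat tj hinj (LocalizedModule (Submonoid.powers g) (F ⧸ K'))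
    (LocalizedModule.mkLinearMap (Submonoid.powers g) (F ⧸ K') (K'.mkQ x)) hy
  obtain ⟨c, hc⟩ := (IsLocalizedModule.eq_zero_iff (Submonoid.powers g)
    (LocalizedModule.mkLinearMap (Submonoid.powers g) (F ⧸ K'))).mp hy0
  obtain ⟨k, hk⟩ := (Submonoid.mem_powers_iff _ _).mp c.2
  refine ⟨k, ?_⟩
  have h6 : (c : S) • K'.mkQ x = 0 := hc
  rw [← hk, ← map_smul, Submodule.mkQ_apply, Submodule.Quotient.mk_eq_zero] at h6
  exact h6

end B

section Main

variable {R S : Type u} [CommRing R] [CommRing S] [Algebra R S] [Algebra.FinitePresentation R S]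
  {M : Type u} [AddCommGroup M] [Module S M] [Module R M] [IsScalarTower R S M] [Module.Flat R M]
  [Module.Finite S M]

theorem main (s : Finset (PrimeSpectrum R))
    (hs : Function.Injective fun r : R => fun p : s =>
      algebraMap R (Localization.AtPrime p.1.asIdeal) r)
    (hloc : ∀ (p : Ideal R) [p.IsPrime],
      Module.FinitePresentation
        (Localization (Algebra.algebraMapSubmonoid S p.primeCompl))
        (LocalizedModule (Algebra.algebraMapSubmonoid S p.primeCompl) M)) :
    Module.FinitePresentation S M := by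
  classical
  obtain ⟨r, π, hπ⟩ := Module.Finite.exists_fin' S M
  have key : ∀ q : PrimeSpectrum S, ∃ g : S, g ∉ q.asIdeal ∧ ∃ K₀ : Submodule S (Fin r → S),
      K₀ ≤ LinearMap.ker π ∧ K₀.FG ∧ ∀ x ∈ LinearMap.ker π, ∃ k : ℕ, g ^ k • x ∈ K₀ :=
    fun q => exists_basicOpen (R := R) π hπ s hs hloc q.asIdeal
  choose g hg K₀ hK1 hK2 hK3 using key
  have hspan : Ideal.span (Set.range g) = ⊤ := by
    by_contra hne
    obtain ⟨m, hm, hle⟩ := Ideal.exists_le_maximal _ hne
    exact hg ⟨m, hm.isPrime⟩ (hle (Ideal.subset_span ⟨⟨m, hm.isPrime⟩, rfl⟩))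
  obtain ⟨t, ht1, ht2⟩ := (Ideal.span_eq_top_iff_finite _).mp hspan
  have hq : ∀ e : t, ∃ q : PrimeSpectrum S, g q = e.1 := fun e => ht1 e.2
  choose qe hqe using hq
  let K'' : Submodule S (Fin r → S) := ⨆ e : t, K₀ (qe e)
  have hK''le : K'' ≤ LinearMap.ker π := iSup_le fun e => hK1 _
  have hK''fg : K''.FG := Submodule.fg_iSup _ fun e => hK2 _
  have hker : LinearMap.ker π = K'' := by
    refine le_antisymm (fun x hx => ?_) hK''le
    refine Submodule.mem_of_span_eq_top_of_smul_pow_mem K'' (t : Set S) ht2 x ?_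
    rintro ⟨e, he⟩
    obtain ⟨k, hk⟩ := hK3 (qe ⟨e, he⟩) x hx
    refine ⟨k, ?_⟩
    rw [hqe ⟨e, he⟩] at hk
    exact le_iSup (fun e : t => K₀ (qe e)) ⟨e, he⟩ hk
  exact Module.finitePresentation_of_free_of_surjective π hπ (hker ▸ hK''fg)

end Main

end Groth.Agent.Helper7.FPLoc
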