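import Mathlib
import Groth.Agent.Lib.Helper7.FPLoc.Main

set_option linter.style.haveILetI false
set_option linter.unusedVariables false
set_option linter.unusedSectionVars false
set_option autoImplicit false
set_option backward.isDefEq.respectTransparency.types false
set_option synthInstance.maxHeartbeats 400000
set_option maxHeartbeats 1600000

universe u

/-! helper7: variant of `FPLoc.main` with the local hypothesis given on the kernel, and the algebra
version (a flat finite type algebra which is locally finitely presented is finitely presented). -/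

open TensorProduct

namespace Groth.Agent.Helper7.FPLoc

section B'

variable {R S : Type u} [CommRing R] [CommRing S] [Algebra R S] [Algebra.FinitePresentation R S]
  {M : Type u} [AddCommGroup M] [Module S M] [Module R M] [IsScalarTower R S M] [Module.Flat R M]
  {F : Type u} [AddCommGroup F] [Module S F] [Module R F] [IsScalarTower R S F]
  [Module.Free S F] [Module.Finite S F]
  (π : F →ₗ[S] M) (hπ : Function.Surjective π)
  (s : Finset (PrimeSpectrum R))
  (hs : Function.Injective fun r : R => fun p : s =>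
    algebraMap R (Localization.AtPrime p.1.asIdeal) r)
  (hA : ∀ (p' : Ideal R) [p'.IsPrime], ∃ K₀ : Submodule S F, K₀ ≤ LinearMap.ker π ∧ K₀.FG ∧
      ∀ x ∈ LinearMap.ker π, ∃ t : R, t ∉ p' ∧ t • x ∈ K₀)

include hπ hs hA in
theorem exists_basicOpen' (q : Ideal S) [q.IsPrime] :
    ∃ g : S, g ∉ q ∧ ∃ K₀ : Submodule S F, K₀ ≤ LinearMap.ker π ∧ K₀.FG ∧
      ∀ x ∈ LinearMap.ker π, ∃ k : ℕ, g ^ k • x ∈ K₀ := by
  classical
  let p : Ideal R := q.comap (algebraMap R S)
  haveI : p.IsPrime := Ideal.comap_isPrime _ _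
  obtain ⟨Kp, hKp1, hKp2, hKp3⟩ := hA p
  have hA' : ∀ j : s, ∃ K₀ : Submodule S F, K₀ ≤ LinearMap.ker π ∧ K₀.FG ∧
      ∀ x ∈ LinearMap.ker π, ∃ t : R, t ∉ j.1.asIdeal ∧ t • x ∈ K₀ := fun j => hA j.1.asIdeal
  choose Kj hKj1 hKj2 hKj3 using hA'
  let K' : Submodule S F := Kp ⊔ ⨆ j : s, Kj j
  have hK'le : K' ≤ LinearMap.ker π := sup_le hKp1 (iSup_le hKj1)
  have hK'fg : K'.FG := hKp2.sup (Submodule.fg_iSup _ hKj2)
  have hKpK' : Kp ≤ K' := le_sup_left
  have hKjK' : ∀ j, Kj j ≤ K' := fun j => le_trans (le_iSup Kj j) le_sup_right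
  haveI : Module.FinitePresentation S (F ⧸ K') :=
    Module.finitePresentation_of_free_of_surjective K'.mkQ (Submodule.mkQ_surjective K')
      (by rwa [Submodule.ker_mkQ])
  let φ : (F ⧸ K') →ₗ[S] M := K'.liftQ π hK'le
  have hφmk : ∀ z : F, φ (K'.mkQ z) = π z := fun z => rfl
  have hφsurj : Function.Surjective φ := by
    intro m
    obtain ⟨x, rfl⟩ := hπ m
    exact ⟨K'.mkQ x, hφmk x⟩
  have hsmulmk : ∀ (t : R) (z : F), t • K'.mkQ z = K'.mkQ (t • z) := by
    intro t z
    rw [Submodule.mkQ_apply, Submodule.mkQ_apply, Submodule.Quotient.mk_smul]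
  have hφker : ∀ x' : F ⧸ K', φ x' = 0 → ∃ t : R, t ∉ p ∧ t • x' = 0 := by
    intro x' hx'
    obtain ⟨z, rfl⟩ := Submodule.mkQ_surjective K' x'
    have hz : z ∈ LinearMap.ker π := by
      rw [LinearMap.mem_ker, ← hφmk]; exact hx'
    obtain ⟨t, ht, htz⟩ := hKp3 z hz
    refine ⟨t, ht, ?_⟩
    rw [hsmulmk, Submodule.mkQ_apply, Submodule.Quotient.mk_eq_zero]
    exact hKpK' htz
  have hflatq : Module.Flat R (LocalizedModule q.primeCompl (F ⧸ K')) := by
    haveI : Module.Flat R (LocalizedModule q.primeCompl M) :=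
      FlatAtBC.flat_of_isLocalizedModule (A := R) (B := S) q.primeCompl
        (LocalizedModule.mkLinearMap q.primeCompl M)
    let ψ : (F ⧸ K') →ₗ[S] LocalizedModule q.primeCompl M :=
      (LocalizedModule.mkLinearMap q.primeCompl M) ∘ₗ φ
    haveI : IsLocalizedModule q.primeCompl ψ := by
      refine ⟨?_, ?_, ?_⟩
      · exact IsLocalizedModule.map_units (LocalizedModule.mkLinearMap q.primeCompl M)
      · intro y
        obtain ⟨⟨m, t⟩, hmt⟩ := IsLocalizedModule.surj q.primeCompl
          (LocalizedModule.mkLinearMap q.primeCompl M) y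
        obtain ⟨x', rfl⟩ := hφsurj m
        exact ⟨⟨x', t⟩, hmt⟩
      · intro x₁ x₂ h
        have h1 : LocalizedModule.mkLinearMap q.primeCompl M (φ (x₁ - x₂)) = 0 := by
          rw [map_sub, map_sub, sub_eq_zero]; exact h
        obtain ⟨c, hc⟩ := (IsLocalizedModule.eq_zero_iff q.primeCompl
          (LocalizedModule.mkLinearMap q.primeCompl M)).mp h1
        have h2 : φ ((c : S) • (x₁ - x₂)) = 0 := by rw [map_smul]; exact hc
        obtain ⟨t, ht, htx⟩ := hφker _ h2
        have htq : algebraMap R S t ∈ q.primeCompl := fun hmem => ht hmem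
        refine ⟨⟨algebraMap R S t, htq⟩ * c, ?_⟩
        have h3 : (algebraMap R S t * (c : S)) • (x₁ - x₂) = 0 := by
          rw [mul_smul, algebraMap_smul]; exact htx
        rw [smul_sub, sub_eq_zero] at h3
        exact h3
    exact Module.Flat.of_linearEquiv ((IsLocalizedModule.iso q.primeCompl ψ).restrictScalars R)
  have hopen : IsOpen {r : PrimeSpectrum S |
      Module.Flat R (LocalizedModule r.asIdeal.primeCompl (F ⧸ K'))} :=
    Groth.Agent.Lead.FlatLoc.isOpen_flatLocus_of_finitePresentation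
  have hqU : (⟨q, inferInstance⟩ : PrimeSpectrum S) ∈ {r : PrimeSpectrum S |
      Module.Flat R (LocalizedModule r.asIdeal.primeCompl (F ⧸ K'))} := hflatq
  obtain ⟨_, ⟨g, rfl⟩, hqg, hgU⟩ :=
    PrimeSpectrum.isTopologicalBasis_basic_opens.exists_subset_of_mem_open hqU hopen
  have hgq : g ∉ q := hqg
  haveI hflatg : Module.Flat R (LocalizedModule (Submonoid.powers g) (F ⧸ K')) := by
    apply Groth.Agent.Lead.FlatLoc.flat_localizedModule_of_forall_prime (A := R) (F ⧸ K')
      (Submonoid.powers g)
    intro r _ hdisj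
    have hgr : g ∉ r := fun hmem => Set.disjoint_left.mp hdisj hmem (Submonoid.mem_powers g)
    exact hgU (show (⟨r, inferInstance⟩ : PrimeSpectrum S) ∈
      (PrimeSpectrum.basicOpen g : Set (PrimeSpectrum S)) from hgr)
  refine ⟨g, hgq, K', hK'le, hK'fg, fun x hx => ?_⟩
  have htj : ∀ j : s, ∃ t : R, t ∉ j.1.asIdeal ∧ t • x ∈ K' := fun j => by
    obtain ⟨t, ht, htx⟩ := hKj3 j x hx
    exact ⟨t, ht, hKjK' j htx⟩
  choose tj htj1 htj2 using htj
  have hinj : ∀ r : R, (∀ j, tj j * r = 0) → r = 0 := by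
    intro r hr
    apply hs
    funext j
    show algebraMap R (Localization.AtPrime j.1.asIdeal) r =
      algebraMap R (Localization.AtPrime j.1.asIdeal) 0
    rw [map_zero]
    have hu : IsUnit (algebraMap R (Localization.AtPrime j.1.asIdeal) (tj j)) :=
      IsLocalization.map_units _ (⟨tj j, htj1 j⟩ : j.1.asIdeal.primeCompl)
    have h5 := congrArg (algebraMap R (Localization.AtPrime j.1.asIdeal)) (hr j)
    rw [map_mul, map_zero] at h5
    exact (hu.mul_right_eq_zero).mp h5
  have hy : ∀ j, tj j • (LocalizedModule.mkLinearMap (Submonoid.powers g) (F ⧸ K') (K'.mkQ x)) = 0 := by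
    intro j
    have h1 : tj j • (K'.mkQ x) = 0 := by
      rw [hsmulmk, Submodule.mkQ_apply, Submodule.Quotient.mk_eq_zero]
      exact htj2 j
    rw [← algebraMap_smul S (tj j), ← map_smul, algebraMap_smul, h1, map_zero]
  have hy0 := eq_zero_of_flat tj hinj (LocalizedModule (Submonoid.powers g) (F ⧸ K'))
    (LocalizedModule.mkLinearMap (Submonoid.powers g) (F ⧸ K') (K'.mkQ x)) hy
  obtain ⟨c, hc⟩ := (IsLocalizedModule.eq_zero_iff (Submonoid.powers g)
    (LocalizedModule.mkLinearMap (Submonoid.powers g) (F ⧸ K'))).mp hy0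
  obtain ⟨k, hk⟩ := (Submonoid.mem_powers_iff _ _).mp c.2
  refine ⟨k, ?_⟩
  have h6 : (c : S) • K'.mkQ x = 0 := hc
  rw [← hk, ← map_smul, Submodule.mkQ_apply, Submodule.Quotient.mk_eq_zero] at h6
  exact h6


include hπ hs hA in
theorem main' : (LinearMap.ker π).FG := by
  classical
  have key : ∀ q : PrimeSpectrum S, ∃ g : S, g ∉ q.asIdeal ∧ ∃ K₀ : Submodule S F,
      K₀ ≤ LinearMap.ker π ∧ K₀.FG ∧ ∀ x ∈ LinearMap.ker π, ∃ k : ℕ, g ^ k • x ∈ K₀ :=
    fun q => exists_basicOpen' (R := R) π hπ s hs hA q.asIdeal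
  choose g hg K₀ hK1 hK2 hK3 using key
  have hspan : Ideal.span (Set.range g) = ⊤ := by
    by_contra hne
    obtain ⟨m, hm, hle⟩ := Ideal.exists_le_maximal _ hne
    exact hg ⟨m, hm.isPrime⟩ (hle (Ideal.subset_span ⟨⟨m, hm.isPrime⟩, rfl⟩))
  obtain ⟨t, ht1, ht2⟩ := (Ideal.span_eq_top_iff_finite _).mp hspan
  have hq : ∀ e : t, ∃ q : PrimeSpectrum S, g q = e.1 := fun e => ht1 e.2
  choose qe hqe using hq
  let K'' : Submodule S F := ⨆ e : t, K₀ (qe e)
  have hK''le : K'' ≤ LinearMap.ker π := iSup_le fun e => hK1 _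
  have hK''fg : K''.FG := Submodule.fg_iSup _ fun e => hK2 _
  have hker : LinearMap.ker π = K'' := by
    refine le_antisymm (fun x hx => ?_) hK''le
    refine Submodule.mem_of_span_eq_top_of_smul_pow_mem K'' (t : Set S) ht2 x ?_
    rintro ⟨e, he⟩
    obtain ⟨k, hk⟩ := hK3 (qe ⟨e, he⟩) x hx
    refine ⟨k, ?_⟩
    rw [hqe ⟨e, he⟩] at hk
    exact le_iSup (fun e : t => K₀ (qe e)) ⟨e, he⟩ hk
  exact hker ▸ hK''fg

end B'

section Alg

theorem alg_main {R S : Type u} [CommRing R] [CommRing S]
    [Algebra R S] [Algebra.FiniteType R S] [Module.Flat R S] (s : Finset (PrimeSpectrum R))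
    (hs : Function.Injective fun r : R => fun p : s =>
      algebraMap R (Localization.AtPrime p.1.asIdeal) r)
    (hloc : ∀ (p : Ideal R) [p.IsPrime],
      Algebra.FinitePresentation (Localization.AtPrime p)
        (Localization (Algebra.algebraMapSubmonoid S p.primeCompl))) :
    Algebra.FinitePresentation R S := by
  classical
  obtain ⟨n, π, hπ⟩ := Algebra.FiniteType.iff_quotient_mvPolynomial''.mp
    (inferInstance : Algebra.FiniteType R S)
  letI : Algebra (MvPolynomial (Fin n) R) S := π.toRingHom.toAlgebra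
  haveI : IsScalarTower R (MvPolynomial (Fin n) R) S :=
    IsScalarTower.of_algebraMap_eq (fun r => (π.commutes r).symm)
  let πl : MvPolynomial (Fin n) R →ₗ[MvPolynomial (Fin n) R] S :=
    Algebra.linearMap (MvPolynomial (Fin n) R) S
  have hπl : Function.Surjective πl := hπ
  have hkerEq : RingHom.ker π.toRingHom = LinearMap.ker πl := by
    ext x; exact Iff.rfl
  have hA : ∀ (p : Ideal R) [p.IsPrime], ∃ K₀ : Submodule (MvPolynomial (Fin n) R)
      (MvPolynomial (Fin n) R), K₀ ≤ LinearMap.ker πl ∧ K₀.FG ∧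
      ∀ x ∈ LinearMap.ker πl, ∃ t : R, t ∉ p ∧ t • x ∈ K₀ := by
    intro p _
    haveI := hloc p
    haveI : Algebra.IsPushout R (Localization.AtPrime p) (MvPolynomial (Fin n) R)
        (Localization (Algebra.algebraMapSubmonoid (MvPolynomial (Fin n) R) p.primeCompl)) :=
      (Algebra.isPushout_of_isLocalization p.primeCompl (Localization.AtPrime p)
        (MvPolynomial (Fin n) R)
        (Localization (Algebra.algebraMapSubmonoid (MvPolynomial (Fin n) R) p.primeCompl))).symm
    haveI : Algebra.FinitePresentation (Localization.AtPrime p)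
        (Localization (Algebra.algebraMapSubmonoid (MvPolynomial (Fin n) R) p.primeCompl)) :=
      Algebra.FinitePresentation.equiv (Algebra.IsPushout.equiv R (Localization.AtPrime p)
        (MvPolynomial (Fin n) R)
        (Localization (Algebra.algebraMapSubmonoid (MvPolynomial (Fin n) R) p.primeCompl)))
    let πp := IsLocalization.mapₐ p.primeCompl (Localization.AtPrime p)
      (Localization (Algebra.algebraMapSubmonoid (MvPolynomial (Fin n) R) p.primeCompl))
      (Localization (Algebra.algebraMapSubmonoid S p.primeCompl)) π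
    have hπp : Function.Surjective πp :=
      IsLocalization.mapₐ_surjective_of_surjective p.primeCompl (Localization.AtPrime p)
        (Localization (Algebra.algebraMapSubmonoid (MvPolynomial (Fin n) R) p.primeCompl))
        (Localization (Algebra.algebraMapSubmonoid S p.primeCompl)) π hπ
    have hfg : (RingHom.ker πp.toRingHom).FG :=
      Algebra.FinitePresentation.ker_fG_of_surjective πp hπp
    have hkm : RingHom.ker πp.toRingHom = (RingHom.ker π.toRingHom).map
        (algebraMap (MvPolynomial (Fin n) R)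
          (Localization (Algebra.algebraMapSubmonoid (MvPolynomial (Fin n) R) p.primeCompl))) :=
      IsLocalization.ker_map
        (S := Localization (Algebra.algebraMapSubmonoid (MvPolynomial (Fin n) R) p.primeCompl))
        (Localization (Algebra.algebraMapSubmonoid S p.primeCompl)) π.toRingHom
        (Algebra.algebraMapSubmonoid_map_eq p.primeCompl π)
    rw [hkm] at hfg
    have hspan : Ideal.map (algebraMap (MvPolynomial (Fin n) R)
          (Localization (Algebra.algebraMapSubmonoid (MvPolynomial (Fin n) R) p.primeCompl)))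
        (RingHom.ker π.toRingHom) =
        Submodule.span _ ((algebraMap (MvPolynomial (Fin n) R)
          (Localization (Algebra.algebraMapSubmonoid (MvPolynomial (Fin n) R) p.primeCompl))) ''
          ((RingHom.ker π.toRingHom : Ideal (MvPolynomial (Fin n) R)) :
            Set (MvPolynomial (Fin n) R))) := rfl
    rw [hspan] at hfg
    obtain ⟨s', hs'1, hs'2⟩ := (Submodule.fg_span_iff_fg_span_finset_subset _).mp hfg
    obtain ⟨s'', hs''1, hs''2⟩ := Finset.subset_set_image_iff.mp hs'1
    have hK₀I : Ideal.span (s'' : Set (MvPolynomial (Fin n) R)) ≤ RingHom.ker π.toRingHom :=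
      Ideal.span_le.mpr hs''1
    have hmapK₀ : Ideal.map (algebraMap (MvPolynomial (Fin n) R)
          (Localization (Algebra.algebraMapSubmonoid (MvPolynomial (Fin n) R) p.primeCompl)))
          (Ideal.span (s'' : Set (MvPolynomial (Fin n) R))) =
        Ideal.map (algebraMap (MvPolynomial (Fin n) R)
          (Localization (Algebra.algebraMapSubmonoid (MvPolynomial (Fin n) R) p.primeCompl)))
          (RingHom.ker π.toRingHom) := by
      rw [Ideal.map_span, hspan, hs'2, ← hs''2, Finset.coe_image]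
    refine ⟨Ideal.span (s'' : Set (MvPolynomial (Fin n) R)), hkerEq ▸ hK₀I, ⟨s'', rfl⟩, ?_⟩
    intro x hx
    have hxI : x ∈ RingHom.ker π.toRingHom := hx
    have h1 : algebraMap (MvPolynomial (Fin n) R)
        (Localization (Algebra.algebraMapSubmonoid (MvPolynomial (Fin n) R) p.primeCompl)) x ∈
        Ideal.map (algebraMap (MvPolynomial (Fin n) R)
          (Localization (Algebra.algebraMapSubmonoid (MvPolynomial (Fin n) R) p.primeCompl)))
          (Ideal.span (s'' : Set (MvPolynomial (Fin n) R))) :=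
      hmapK₀ ▸ Ideal.mem_map_of_mem _ hxI
    obtain ⟨⟨k, t⟩, hkt⟩ := (IsLocalization.mem_map_algebraMap_iff
      (Algebra.algebraMapSubmonoid (MvPolynomial (Fin n) R) p.primeCompl)
      (Localization (Algebra.algebraMapSubmonoid (MvPolynomial (Fin n) R) p.primeCompl))).mp h1
    rw [← map_mul] at hkt
    obtain ⟨c, hc⟩ := (IsLocalization.eq_iff_exists
      (Algebra.algebraMapSubmonoid (MvPolynomial (Fin n) R) p.primeCompl)
      (Localization (Algebra.algebraMapSubmonoid (MvPolynomial (Fin n) R) p.primeCompl))).mp hkt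
    obtain ⟨u, hu, hcu⟩ := (c * t).2
    refine ⟨u, hu, ?_⟩
    have h2 : u • x = (c : MvPolynomial (Fin n) R) * (k : MvPolynomial (Fin n) R) := by
      rw [Algebra.smul_def, hcu, ← hc]
      push_cast
      ring
    rw [h2]
    exact Ideal.mul_mem_left _ _ k.2
  have hfgK : (LinearMap.ker πl).FG := main' (R := R) πl hπl s hs hA
  exact Algebra.FinitePresentation.of_surjective hπ (hkerEq ▸ hfgK)

end Alg

end Groth.Agent.Helper7.FPLoc
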